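import Groth.Agent.Sga4h.SLoc
import Groth.Agent.S0090
import Groth.Prelude.Def_Pi1
import Mathlib.AlgebraicGeometry.FunctionField

/-!
# The generic point of a normal integral scheme with separably closed function field

* `isStrictLoc_of_comp_mono`: cancellation of a monomorphism;
* `isStrictLoc_genericPoint`: `Y.fromSpecResidueField (genericPoint Y)` is a strict localization;
* `exists_factor`: it factors through `Spec O_{Y,y}`, for all `y`, as a strict localization of `Spec O_{Y,y}`.
-/

set_option autoImplicit false
universe u
open CategoryTheory CategoryTheory.Limits AlgebraicGeometry Opposite IsLocalRing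

namespace Groth.Agent.Etbc.H199.GenPt

open Groth.Agent.Etrest.StrictLoc Groth.Agent.Sga4h.SLoc

/-- Cancellation of a monomorphism in strict localizations. -/
theorem isStrictLoc_of_comp_mono {X Y : Scheme.{u}} {C : Type u} [CommRing C] [IsLocalRing C]
    {τ : Spec (CommRingCat.of C) ⟶ Y} (q : Y ⟶ X) [Mono q] (h : IsStrictLoc (τ ≫ q)) : IsStrictLoc τ where
  henselian := h.henselian
  sepClosed := h.sepClosed
  sep := by
    obtain ⟨x, i, h1, h2⟩ := h.sep
    obtain ⟨j, hj⟩ := exists_residueField_hom (resPt C ≫ τ) _ rfl
    refine ⟨_, j, hj, ?_⟩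
    have hx : q ((resPt C ≫ τ) (closedPoint (ResidueField C))) = x := by
      have h3 : (resPt C ≫ τ ≫ q) (closedPoint (ResidueField C)) = x :=
        point_eq (i := i) (a := 𝟙 _) (by rw [Category.id_comp]; exact h1)
      rw [← h3, ← Scheme.Hom.comp_apply, Category.assoc]
    subst hx
    have h3 : j.comp (q.residueFieldMap ((resPt C ≫ τ) (closedPoint (ResidueField C)))).hom = i := by
      rw [← spm_inj, ← cancel_mono (X.fromSpecResidueField _)]
      refine Eq.trans ?_ h1.symm
      rw [spm_comp, Category.assoc]
      refine (congrArg (fun k => spm j ≫ k) (Scheme.Hom.SpecMap_residueFieldMap_fromSpecResidueField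
        (f := q) ((resPt C ≫ τ) (closedPoint (ResidueField C))))).trans ?_
      rw [← Category.assoc, ← Category.assoc]
      exact congrArg (fun k => k ≫ q) hj
    rw [← h3] at h2
    exact h2.of_comp
  universal := by
    intro T _ _ t τ' ht
    obtain ⟨g, ⟨hg1, hg2⟩, hg3⟩ := h.universal T (t ≫ q) τ' (by
      rw [← Category.assoc (resPt T), ← ht]
      simp only [Category.assoc])
    refine ⟨g, ⟨?_, hg2⟩, ?_⟩
    · rw [← cancel_mono q, Category.assoc]
      exact hg1
    · rintro g' ⟨h1, h2⟩
      exact hg3 g' ⟨by rw [← Category.assoc, h1], h2⟩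

variable (Y : Scheme.{u}) [IsIntegral Y] [IsSepClosed (Y.residueField (genericPoint Y))]

theorem bijective_residue :
    Function.Bijective (residue (Y.presheaf.stalk (genericPoint Y))) := by
  refine ⟨?_, residue_surjective⟩
  have : IsField (Y.presheaf.stalk (genericPoint Y)) := Field.toIsField Y.functionField
  rw [injective_iff_map_eq_zero]
  intro x hx
  by_contra h0
  obtain ⟨y, hy⟩ := this.mul_inv_cancel h0
  have hu : IsUnit x := IsUnit.of_mul_eq_one y hy
  exact (residue_ne_zero_iff_isUnit x).2 hu hx

instance isSepClosed_functionField : IsSepClosed Y.functionField := by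
  have h := bijective_residue Y
  exact Groth.Agent.Etrest.SHPoint.isSepClosed_of_ringEquiv
    (k := Y.residueField (genericPoint Y)) (RingEquiv.ofBijective _ h)

theorem isStrictLoc_genericPoint :
    @IsStrictLoc Y (ResidueField (Y.presheaf.stalk (genericPoint Y))) _ _
      (Y.fromSpecResidueField (genericPoint Y)) := by
  have hloc : IsLocalHom (algebraMap (Y.presheaf.stalk (genericPoint Y))
      (ResidueField (Y.presheaf.stalk (genericPoint Y)))) :=
    inferInstanceAs (IsLocalHom (residue _))
  have hs : IsSepClosed (ResidueField (Y.presheaf.stalk (genericPoint Y))) :=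
    inferInstanceAs (IsSepClosed (Y.residueField (genericPoint Y)))
  have := Groth.Agent.Etrest.SHPoint.isSepClosed_residueField
    (ResidueField (Y.presheaf.stalk (genericPoint Y)))
  have := Groth.Agent.Etrest.SHPoint.isStrictHenselization_of_bijective
    (Y.presheaf.stalk (genericPoint Y)) (ResidueField (Y.presheaf.stalk (genericPoint Y)))
    (bijective_residue Y)
  exact isStrictLoc_specOf Y (genericPoint Y) (ResidueField (Y.presheaf.stalk (genericPoint Y)))

theorem exists_factor (y : Y) :
    ∃ t : Spec (Y.residueField (genericPoint Y)) ⟶ Spec (CommRingCat.of (Y.presheaf.stalk y)),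
      t ≫ stalkPt Y y = Y.fromSpecResidueField (genericPoint Y) ∧
      @IsStrictLoc _ (ResidueField (Y.presheaf.stalk (genericPoint Y))) _ _ t := by
  have h1 : (Spec.map (Y.residue (genericPoint Y)) ≫
      Spec.map (Y.presheaf.stalkSpecializes (genericPoint_specializes y))) ≫ stalkPt Y y =
      Y.fromSpecResidueField (genericPoint Y) := by
    rw [Category.assoc]
    exact congrArg (fun k => Spec.map (Y.residue (genericPoint Y)) ≫ k)
      (Scheme.SpecMap_stalkSpecializes_fromSpecStalk (genericPoint_specializes y))
  refine ⟨_, h1, ?_⟩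
  have h2 := isStrictLoc_genericPoint Y
  rw [← h1] at h2
  exact isStrictLoc_of_comp_mono (stalkPt Y y) h2

end Groth.Agent.Etbc.H199.GenPt
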