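import Groth.Agent.Etbc.H199.StrictFib
import Groth.Agent.Etbc.H199.GenPt
import Groth.Agent.Etbc.H228.AcycIff
import Groth.Agent.Etrest.HpullTors2
import Groth.Agent.EtpbcB.TorsEtN
import Groth.Agent.Etbase.OverStalk

/-!
# Local acyclicity and generic fibres over strict localizations, locally constant coefficients

* `isAcyclicN_spm`: local `n`-acyclicity with strict localizations as morphisms;
* `bijective_hp_zero_const`: degree zero comparison for constant sheaves on connected schemes;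
* `isLTorsion_constU`: the constant sheaf with `L`-torsion value group;
* `local_key`: `g : Spec R → Spec A` an `n`-acyclic morphism of strictly henselian local schemes, `i : Spec C → Spec A` a
  strict localization, `P = Spec R ×_{Spec A} Spec C`, `G` a locally constant `L`-torsion sheaf on `Spec R`:
  `Γ(Spec R, G) = Γ(P, G)` and `H^q(P, G) = 0` for `1 ≤ q ≤ n`.
-/

set_option autoImplicit false
universe u
open CategoryTheory CategoryTheory.Limits AlgebraicGeometry Opposite IsLocalRing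

namespace Groth.Agent.Etbc.H199.LocalKey

open Groth.Agent.Etrest.StrictLoc Groth.Agent.Sga4h.SLoc Groth.Agent.Etcore.HpullCalc
  Groth.Agent.Etbc.H199.StrictFib Groth.Agent.Etrest.LCConst
open Groth.Agent.Etrest.HpullConst hiding constU

theorem isAcyclicN_spm {X S : Scheme.{u}} {f : X ⟶ S} {L : Set ℕ} {n : ℕ}
    (hf : EtAcyc.IsLocAcyclicN f L n) {RS RX : Type u} [CommRing RS]
    [IsLocalRing RS] [CommRing RX] [IsLocalRing RX] {σ : Spec (CommRingCat.of RS) ⟶ S}
    {ξ : Spec (CommRingCat.of RX) ⟶ X} (hσ : IsStrictLoc σ) (hξ : IsStrictLoc ξ) (a : RS →+* RX)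
    [IsLocalHom a] (h : spm a ≫ σ = ξ ≫ f) : EtAcyc.IsAcyclicN (spm a) L n := by
  obtain ⟨x, _, _, _, hx, hx'⟩ := exists_sh hξ
  obtain ⟨s, _, _, _, hs, hs'⟩ := exists_sh hσ
  have hsx : s = f.base x := by
    rw [hs', hx']
    have h1 : (spm a) (closedPoint RX) = closedPoint RS := by
      have : IsLocalHom (CommRingCat.ofHom a).hom := inferInstanceAs (IsLocalHom a)
      exact Spec_closedPoint (R := CommRingCat.of RS) (S := CommRingCat.of RX) (f := CommRingCat.ofHom a)
    exact ((congrArg σ h1).symm.trans (congrArg (fun q => q (closedPoint RX)) h))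
  subst hsx
  have hc := (Groth.Agent.Etrest.VCBaseChange.specOf_comm f x RS RX a).2 (by rw [hs, hx]; exact h)
  let _ : Algebra RS RX := a.toAlgebra
  have hloc : IsLocalHom (algebraMap RS RX) := inferInstanceAs (IsLocalHom a)
  exact hf x RS RX hc

theorem form_of_isAcyclicN {X Y : Scheme.{u}} {g : X ⟶ Y} {L : Set ℕ} {n : ℕ}
    (h : EtAcyc.IsAcyclicN g L n) : H228.AcycIff.Form g L n :=
  H228.AcycIff.form_of_compN_cofinal H228.Converse.cofinal_true fun W _ => h W

theorem constU_map_bijective_of_connected (X : Scheme.{u}) [ConnectedSpace X]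
    (A B : AddCommGrpCat.{u + 1}) : Function.Bijective (fun ψ : B ⟶ A => (constU X).map ψ) := by
  let hT := Etrest.ConstBasic.isTerminalTop X
  refine constU_map_bijective X A B hT ?_
  have : ConnectedSpace (EtCoh.top X).left := inferInstanceAs (ConnectedSpace X)
  exact (isIso_unit_iff X A hT).2 (bijective_const _)

/-- Degree zero comparison for constant sheaves on connected schemes. -/
theorem bijective_hp_zero_const {X Y : Scheme.{u}} [ConnectedSpace X] [ConnectedSpace Y] (f : X ⟶ Y)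
    (A : AddCommGrpCat.{u + 1}) : Function.Bijective (hp f ((constU Y).obj A) 0) := by
  rw [← bijective_Hpull_iff]
  exact bijective_Hpull_zero_const f A (constU_map_bijective_of_connected X _ _)
    (constU_map_bijective_of_connected Y _ _)

theorem isLTorsion_iff_stalk {X : Scheme.{u}} (L : Set ℕ) (F : EtCoh.Ab X) :
    EtAcyc.IsLTorsion L F ↔ ∀ (Ω : Type u) [Field Ω] [IsSepClosed Ω]
      (ξ : Spec (CommRingCat.of Ω) ⟶ X) (t : (EtCoh.stalk ξ).obj F), ∃ m : ℕ,
        EtAcyc.PrimesIn L m ∧ m • t = 0 :=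
  EtpbcB.TorsEtN.torsionN_iff_stalk {m | EtAcyc.PrimesIn L m} F

theorem isLTorsion_of_iso {X : Scheme.{u}} {L : Set ℕ} {F G : EtCoh.Ab X} (e : F ≅ G)
    (hF : EtAcyc.IsLTorsion L F) : EtAcyc.IsLTorsion L G :=
  EtpbcB.TorsEtN.torsionN_of_epi (N := {m | EtAcyc.PrimesIn L m}) e.hom hF

theorem isLTorsion_pull {X Y : Scheme.{u}} {L : Set ℕ} (f : X ⟶ Y) {F : EtCoh.Ab Y}
    (hF : EtAcyc.IsLTorsion L F) : EtAcyc.IsLTorsion L ((EtCoh.pull f).obj F) :=
  EtpbcB.TorsEtN.torsionN_pull {m | EtAcyc.PrimesIn L m} f F hF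

/-- The constant sheaf with `L`-torsion value group is `L`-torsion. -/
theorem isLTorsion_constU (X : Scheme.{u}) (L : Set ℕ) (M : Type (u + 1)) [AddCommGroup M]
    (hM : ∀ m : M, ∃ n : ℕ, EtAcyc.PrimesIn L n ∧ n • m = 0) :
    EtAcyc.IsLTorsion L ((constU X).obj (AddCommGrpCat.of M)) := by
  rw [isLTorsion_iff_stalk]
  intro Ω _ _ ξ t
  let e : (EtCoh.stalk ξ).obj ((constU X).obj (AddCommGrpCat.of M)) ≅ AddCommGrpCat.of M :=
    Groth.Agent.Etbase.OverStalk.sheafFiberConstantSheafIso (Scheme.pointSmallEtale ξ) _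
  obtain ⟨n, hn, h⟩ := hM (e.hom t)
  refine ⟨n, hn, ?_⟩
  rw [← map_nsmul] at h
  have h1 := congrArg e.inv h
  rw [map_zero, ← ConcreteCategory.comp_apply, e.hom_inv_id] at h1
  exact h1

/-- Conversely, over a scheme with a geometric point. -/
theorem torsion_of_isLTorsion_constU (X : Scheme.{u}) (L : Set ℕ) (M : Type (u + 1)) [AddCommGroup M]
    (h : EtAcyc.IsLTorsion L ((constU X).obj (AddCommGrpCat.of M))) (x : X) (m : M) :
    ∃ n : ℕ, EtAcyc.PrimesIn L n ∧ n • m = 0 := by
  rw [isLTorsion_iff_stalk] at h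
  obtain ⟨Ω, _, _, ξ, -⟩ := Etcore.Stalks.exists_geom x
  let e : (EtCoh.stalk ξ).obj ((constU X).obj (AddCommGrpCat.of M)) ≅ AddCommGrpCat.of M :=
    Groth.Agent.Etbase.OverStalk.sheafFiberConstantSheafIso (Scheme.pointSmallEtale ξ) _
  obtain ⟨n, hn, h⟩ := h Ω ξ (e.inv m)
  refine ⟨n, hn, ?_⟩
  rw [← map_nsmul] at h
  have h1 := congrArg e.hom h
  rw [map_zero, ← ConcreteCategory.comp_apply, e.inv_hom_id] at h1
  exact h1

section

variable {A R C : Type u} [CommRing A] [IsLocalRing A] [CommRing R] [HenselianLocalRing R]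
  [IsSepClosed (ResidueField R)] [CommRing C] [IsLocalRing C]
  {g : Spec (CommRingCat.of R) ⟶ Spec (CommRingCat.of A)} {L : Set ℕ} {n : ℕ}
  (hg : EtAcyc.IsAcyclicN g L n) [QuasiCompact g] [QuasiSeparated g]
  {i : Spec (CommRingCat.of C) ⟶ Spec (CommRingCat.of A)} (hi : IsStrictLoc i)
  {P : Scheme.{u}} {b : P ⟶ Spec (CommRingCat.of R)} {r : P ⟶ Spec (CommRingCat.of C)}
  (h : IsPullback b r g i) (G : EtCoh.Ab (Spec (CommRingCat.of R))) (hG : EtAcyc.IsLTorsion L G)
  (hlc : EtRest.IsLocallyConstant G)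

include hg hi h hG hlc

theorem local_key : Function.Bijective (hp b G 0) ∧
    ∀ q : ℕ, 1 ≤ q → q ≤ n → Subsingleton (EtCoh.H P ((EtCoh.pull b).obj G) q) := by
  obtain ⟨M, _, ⟨e⟩⟩ := exists_iso_const R G hlc
  have hM : ∀ m : M, ∃ n : ℕ, EtAcyc.PrimesIn L n ∧ n • m = 0 :=
    torsion_of_isLTorsion_constU _ L M (isLTorsion_of_iso e hG) (closedPoint R)
  let FA := (constU (Spec (CommRingCat.of A))).obj (AddCommGrpCat.of M)
  obtain ⟨hu, hR⟩ := form_of_isAcyclicN hg FA (isLTorsion_constU _ L M hM)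
  let e' : (EtCoh.pull g).obj FA ≅ G := (EtCore.pullConstIso g).app (AddCommGrpCat.of M) ≪≫ e.symm
  have c1 := Etrest.HpullTors2.connectedSpace_of_isLocalRing A
  have c2 := Etrest.HpullTors2.connectedSpace_of_isLocalRing R
  have c3 := Etrest.HpullTors2.connectedSpace_of_isLocalRing C
  constructor
  · have h1 := bijective_hp_zero g FA hu hi h
    rw [← bijective_hp_comp r i FA 0 (bijective_hp_zero_const i _), ← h.w,
      bijective_hp_comp b g FA 0 (bijective_hp_zero_const g _)] at h1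
    exact bijective_hp_of_iso b e' h1
  · intro q h1 h2
    have h3 := subsingleton_H g ((EtCoh.pull g).obj FA) q (hR q h1 h2) hi h
    let e2 : EtCoh.H P ((EtCoh.pull b).obj ((EtCoh.pull g).obj FA)) q ≃+
        EtCoh.H P ((EtCoh.pull b).obj G) q :=
      ((EtCoh.HF P q).mapIso ((EtCoh.pull b).mapIso e')).addCommGroupIsoToAddEquiv
    exact e2.symm.toEquiv.subsingleton

end

end Groth.Agent.Etbc.H199.LocalKey
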