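import Groth.Agent.EtpbcA.LAUnit
import Groth.Agent.EtpbcB.PBCVan
import Groth.Agent.EtpbcB.OshHens
import Groth.Agent.Etcore.HpullComp
import Groth.Agent.Sga4h.SLoc

/-!
# Units and higher direct images via fibres over strict localizations of the base

`g : T ⟶ S` qcqs, `i : Spec C ⟶ S` a strict localization, `P = T ×_S Spec C`.
* `subsingleton_H`: if `R^q g_* G = 0` then `H^q(P, G) = 0`;
* `bijective_hp_zero`: if `F ⟶ g_* g⁻¹ F` is an isomorphism then `Γ(Spec C, F) → Γ(P, F)` is bijective;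
* `isZero_Rpush_of_subsingleton`, `isIso_unit_of_bijective`: the converses, when the conditions hold for all strict
  localizations of `S`.
-/

set_option autoImplicit false
universe u
open CategoryTheory CategoryTheory.Limits AlgebraicGeometry Opposite IsLocalRing

namespace Groth.Agent.Etbc.H199.StrictFib

open Groth.Agent.Etrest.StrictLoc Groth.Agent.EtpbcB Groth.Agent.EtpbcB.StrictLoc Groth.Agent.EtpbcB.BCIso
  Groth.Agent.Etcore.HpullCalc

variable {T S P : Scheme.{u}} (g : T ⟶ S)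

/-- Vanishing of the cohomology of the fibre over a strict localization. -/
theorem subsingleton_H [QuasiCompact g] [QuasiSeparated g] (G : EtCoh.Ab T) (q : ℕ)
    (hz : IsZero ((EtCoh.Rpush g q).obj G))
    {C : Type u} [CommRing C] [IsLocalRing C] {i : Spec (CommRingCat.of C) ⟶ S} (hi : IsStrictLoc i)
    {a : P ⟶ T} {r : P ⟶ Spec (CommRingCat.of C)} (h : IsPullback a r g i) :
    Subsingleton (EtCoh.H P ((EtCoh.pull a).obj G) q) := by
  obtain ⟨x, alg, loc, sh, h2, -⟩ := Sga4h.SLoc.exists_sh hi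
  have := hi.sepClosed
  have h3 := PBCVan.van_of_isZero_Rpush g G q hz x C
  rw [h2] at h3
  exact (PBCVan.van_iff h G q).1 h3

/-- `R^q g_* G = 0` if the cohomology of the fibres over all strict localizations vanishes. -/
theorem isZero_Rpush_of_subsingleton [QuasiCompact g] [QuasiSeparated g] (G : EtCoh.Ab T) (q : ℕ)
    (h : ∀ (C : Type u) [CommRing C] [IsLocalRing C] (i : Spec (CommRingCat.of C) ⟶ S) (_ : IsStrictLoc i),
      Subsingleton (EtCoh.H (pullback g i) ((EtCoh.pull (pullback.fst g i)).obj G) q)) :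
    IsZero ((EtCoh.Rpush g q).obj G) :=
  PBCVan.isZero_Rpush_of_van g G q fun s R _ _ _ _ _ _ _ => h R _ (isStrictLoc_specOf S s R)

theorem bijAt_of_comp_right {X : Scheme.{u}} {F G H : EtCoh.Ab X} (φ : F ⟶ G) (ψ : G ⟶ H)
    (U : X.Etale) (h₁ : BijAt ψ U) (h₂ : BijAt (φ ≫ ψ) U) : BijAt φ U := by
  rw [bijAt_iff_isIso] at *
  have : IsIso (φ.hom.app (op U) ≫ ψ.hom.app (op U)) := h₂
  exact IsIso.of_isIso_comp_right (φ.hom.app (op U)) (ψ.hom.app (op U))

/-- Degree zero, over the étale local ring at a geometric point. -/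
theorem bijAt_map_unit_iff [QuasiCompact g] [QuasiSeparated g] (F : EtCoh.Ab S)
    {Ω : Type u} [Field Ω] [IsSepClosed Ω] (ξ : Spec (CommRingCat.of Ω) ⟶ S)
    {a : P ⟶ T} {r : P ⟶ Spec (Osh ξ)} (h : IsPullback a r g (toBase ξ)) :
    BijAt ((EtCoh.pull (toBase ξ)).map ((EtCoh.pullPushAdj g).unit.app F)) (EtCoh.top _) ↔
      Function.Bijective (hp r ((EtCoh.pull (toBase ξ)).obj F) 0) := by
  rw [← bijective_Hpull_iff, EtpbcA.LA.bijective_Hpull_zero_iff]
  have h1 := EtpbcA.LA.pull_unit_baseChange0 h.w F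
  have h2 := StrictLocStar.bijAt_top ξ g h ((EtCoh.pull g).obj F)
  constructor
  · intro h3
    have h4 := bijAt_comp _ _ _ h3 h2
    rw [h1] at h4
    exact bijAt_of_comp_right _ _ _ (bijAt_of_isIso _ _) h4
  · intro h3
    have h4 := bijAt_comp _ _ _ h3 (bijAt_of_isIso ((EtCoh.push r).map
      ((EtpbcA.LA.kap h.w).hom.app F)) (EtCoh.top _))
    rw [← h1] at h4
    exact bijAt_of_comp_right _ _ _ h2 h4

/-- Precomposition with an isomorphism on the target side. -/
theorem bijective_hp_comp_iso {X Y Y' Z : Scheme.{u}} (f : X ⟶ Y) (e : Y ⟶ Y') [IsIso e] (t : Y' ⟶ Z)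
    (t' : Y ⟶ Z) (ht : e ≫ t = t') (F : EtCoh.Ab Z) (n : ℕ) :
    Function.Bijective (hp (f ≫ e) ((EtCoh.pull t).obj F) n) ↔
      Function.Bijective (hp f ((EtCoh.pull t').obj F) n) := by
  subst ht
  rw [bijective_hp_comp f e _ n (Etcore.HpullCalc.bijective_hp_of_isIso e _ n)]
  exact ⟨fun h => bijective_hp_of_iso f ((EtCore.pullComp e t).symm.app F) h,
    fun h => bijective_hp_of_iso f ((EtCore.pullComp e t).app F) h⟩

theorem toBase_closedPoint {Ω : Type u} [Field Ω] [IsSepClosed Ω] (ξ : Spec (CommRingCat.of Ω) ⟶ S) :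
    toBase ξ (closedPoint (Osh ξ)) = ξ default := by
  rw [← pt_default ξ, ← Scheme.Hom.comp_apply, pt_toBase]

/-- A strict localization is isomorphic to the étale local ring at the corresponding geometric point. -/
theorem exists_iso_toBase {C : Type u} [CommRing C] [IsLocalRing C] {i : Spec (CommRingCat.of C) ⟶ S}
    (hi : IsStrictLoc i) {Ω : Type u} [Field Ω] [IsSepClosed Ω] (ξ : Spec (CommRingCat.of Ω) ⟶ S)
    (hξ : ξ default = i (closedPoint C)) :
    ∃ e : Spec (CommRingCat.of C) ≅ Spec (Osh ξ), e.hom ≫ toBase ξ = i :=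
  Sga4h.SLoc.exists_iso (OshHens.isStrictLoc_toBase ξ) hi (by
    rw [← hξ]
    exact toBase_closedPoint ξ)

/-- Degree zero, over a strict localization. -/
theorem bijective_hp_zero [QuasiCompact g] [QuasiSeparated g] (F : EtCoh.Ab S)
    (hu : IsIso ((EtCoh.pullPushAdj g).unit.app F))
    {C : Type u} [CommRing C] [IsLocalRing C] {i : Spec (CommRingCat.of C) ⟶ S} (hi : IsStrictLoc i)
    {a : P ⟶ T} {r : P ⟶ Spec (CommRingCat.of C)} (h : IsPullback a r g i) :
    Function.Bijective (hp r ((EtCoh.pull i).obj F) 0) := by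
  have := hi.sepClosed
  let ξ := resPt C ≫ i
  have hξ : ξ default = i (closedPoint C) := by
    rw [Scheme.Hom.comp_apply, resPt_closedPoint]
  obtain ⟨e, he⟩ := exists_iso_toBase hi ξ hξ
  have h2 : IsPullback a (r ≫ e.hom) g (toBase ξ) :=
    IsPullback.of_iso h (Iso.refl _) (Iso.refl _) e (Iso.refl _) (by simp) (by simp) (by simp)
      (by simp [he])
  have h3 := (bijAt_map_unit_iff g F ξ h2).1 (bijAt_of_isIso _ _)
  exact (bijective_hp_comp_iso r e.hom (toBase ξ) i he F 0).1 h3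

/-- The unit is an isomorphism if the degree zero restriction maps to the fibres over all strict localizations are
bijective. -/
theorem isIso_unit_of_bijective [QuasiCompact g] [QuasiSeparated g] (F : EtCoh.Ab S)
    (h : ∀ (C : Type u) [CommRing C] [IsLocalRing C] (i : Spec (CommRingCat.of C) ⟶ S) (_ : IsStrictLoc i),
      Function.Bijective (hp (pullback.snd g i) ((EtCoh.pull i).obj F) 0)) :
    IsIso ((EtCoh.pullPushAdj g).unit.app F) := by
  refine Etcore.Stalks.isIso_of_stalks _ fun s => ?_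
  obtain ⟨Ω, _, _, ξ, hξ⟩ := Etcore.Stalks.exists_geom s
  refine ⟨Ω, inferInstance, inferInstance, ξ, hξ, ?_⟩
  rw [EtpbcA.LA.isIso_stalk_iff_pull]
  have h1 := (bijAt_map_unit_iff g F ξ (IsPullback.of_hasPullback g (toBase ξ))).2
    (@h (Osh ξ) _ inferInstance (toBase ξ) (OshHens.isStrictLoc_toBase ξ))
  replace h1 := (@EtpbcA.LA.bijAt_top_iff_pull (Osh ξ) _ inferInstance inferInstance Ω _ _ (pt ξ) (pt_default ξ)
    _ _ _).1 h1
  have h2 : IsIso ((EtCoh.pull (pt ξ ≫ toBase ξ)).map ((EtCoh.pullPushAdj g).unit.app F)) := by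
    exact (NatIso.isIso_map_iff (EtCore.pullComp (pt ξ) (toBase ξ)) _).2 h1
  rwa [pt_toBase] at h2

end Groth.Agent.Etbc.H199.StrictFib
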